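import Mathlib

/-! Facts about `SL₂(3)` (helper7). -/

set_option autoImplicit false

namespace Cfsg.Lib.As3

/-- `SL₂(3)` -/
abbrev S23 := Matrix.SpecialLinearGroup (Fin 2) (ZMod 3)

/-- `-1` -/
def nu : S23 := ⟨!![2, 0; 0, 2], by decide⟩

theorem s_nu : nu * nu = 1 ∧ nu ≠ 1 ∧ nu ^ 3 = nu ∧ ∀ a : S23, a * nu = nu * a := by decide +kernel

theorem s_com : ∀ a b : S23, (a * b * a⁻¹ * b⁻¹) ^ 3 = 1 → a * b * a⁻¹ * b⁻¹ = 1 := by decide +kernel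

theorem s_three : ∀ a b : S23, a ≠ 1 → (b = 1 ∨ b * a = 1 ∨ b * a⁻¹ = 1) ∨ (a = nu ∨ a ^ 2 = nu ∨ a ^ 3 = nu) ∨
    (b = nu ∨ b ^ 2 = nu ∨ b ^ 3 = nu) ∨ (a * b * a⁻¹ * b⁻¹) ^ 2 = nu := by decide +kernel

theorem s_q8 : ∀ r : S23, r ^ 3 = 1 → r ≠ 1 → ∃ i j k : S23, r * i = j * r ∧ r * j = k * r ∧
    i * i = nu * 1 ∧ i * j = k ∧ i * k = nu * j ∧ j * i = nu * k ∧ j * j = nu * 1 ∧ j * k = i ∧ k * i = j ∧ k * j = nu * i ∧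
    k * k = nu * 1 ∧ ∀ a : S23, ∃ q ∈ [1, i, j, k], ∃ c ∈ [1, r, r⁻¹], a = q * c ∨ a = nu * (q * c) := by decide +kernel

theorem s_sq : ∀ g : S23, ∃ h k : S23, g = h * h * (k * k) := by decide +kernel

theorem s_nml : ∀ b : S23, b = 1 ∨ b = nu ∨ ∃ c : S23, (b * c * b⁻¹ * c⁻¹) ^ 2 = nu := by decide +kernel

theorem s_card : Nat.card S23 = 24 := by rw [Nat.card_eq_fintype_card]; decide +kernel

theorem s_odd : ∀ g : S23, ∃ a b : S23, a ^ 3 = 1 ∧ b ^ 3 = 1 ∧ (g = a * b ∨ ∃ c, c ^ 3 = 1 ∧ g = a * b * c) := by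
  decide +kernel

theorem s_rho : ∃ r : S23, r ^ 3 = 1 ∧ r ≠ 1 := by decide +kernel

theorem gl2 : ∀ R I : Matrix (Fin 2) (Fin 2) (ZMod 3), R * R * R = 1 → I * I = 1 →
    R * (R * I * (R * R)) * (R * R) = I * (R * I * (R * R)) → I = 1 := by decide +kernel

theorem z3 : (3 : ZMod 3) = 0 := rfl

end Cfsg.Lib.As3
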